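import Mathlib
import Cfsg.Agent.Lib.helper7.CeB
import Cfsg.Agent.Lib.helper7.CEC.Defs
import Cfsg.Agent.Lib.Helper27.STU.Defs
import Cfsg.Agent.Lib.Helper27.STU.Defs2
import Cfsg.Agent.Lib.Helper27.STU.Sub

/-!
# Project CEU (designer helper7; the `n ≥ 4` half of S2089, the Schur multiplier of `PSU_n(q)`): central extensions of a group with a
Steinberg system of unitary type split — definitions

`σ : Γ →* G` is a central extension (`Cfsg.Agent.Lib.helper7.Ce.IsCE`) of a group `G` carrying a Steinberg system of unitary type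
(`S : SysU F od ι G`, helper27's `STU`: short root elements `S.xs a b t`, `t : F`; long / half root elements `S.xl a ξ`, `ξ : Lam F od`).
`CL σ x y` (helper7 `CeA`): any two lifts of `x` and `y` commute.  `lf h g` (helper7 `CeB`): a chosen lift of `g`.  `cm a b = a b a⁻¹ b⁻¹`, `cj g a = g a g⁻¹`.
Signed indices `a : ι ⊕ ι`, `ng`, `ab` as in `STC.Defs`; `ab a ≠ ab b` says that `a ≠ b` and `a ≠ ng b`.  The index conditions `I2`, `I3`, `I4`, `U2`, `U3` are those of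
`Cfsg.Agent.Lib.helper7.CEC` (project CEC, the type `C` model of this project).
-/

set_option autoImplicit false

namespace Cfsg.Agent.Lib.helper7.CEU

open Cfsg.Agent.Lib.helper15.St2 Cfsg.Agent.Lib.helper7.Ce Cfsg.Agent.Lib.helper3.STC Cfsg.Agent.Lib.Helper27.STU

open Cfsg.Agent.Lib.helper7.CEC (I2 I3 I4 U2 U3)

variable {F : Type*} [Field F] [StarRing F] {od : Prop} {ι : Type*} {Γ G : Type*} [Group Γ] [Group G]

/-- all pairs of short root elements that commute by `SysU.comm_ss` have commuting lifts -/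
def HCs (S : SysU F od ι G) (σ : Γ →* G) : Prop :=
  ∀ a b c d : ι ⊕ ι, a ≠ b → a ≠ ng b → c ≠ d → c ≠ ng d → b ≠ c → a ≠ d → b ≠ ng d → a ≠ ng c → ∀ t u : F,
    CL σ (S.xs a b t) (S.xs c d u)

/-- all pairs (long / half root element, short root element) that commute by `SysU.comm_ls` have commuting lifts -/
def HCl (S : SysU F od ι G) (σ : Γ →* G) : Prop :=
  ∀ a c d : ι ⊕ ι, c ≠ d → c ≠ ng d → c ≠ ng a → d ≠ a → ∀ (ξ : Lam F od) (u : F), CL σ (S.xl a ξ) (S.xs c d u)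

/-- lifts of long root elements commute (to be used in the EVEN case only: in the odd case the half root elements do not commute) -/
def HCe (S : SysU F od ι G) (σ : Γ →* G) : Prop :=
  (∀ (a : ι ⊕ ι) (ξ η : Lam F od), CL σ (S.xl a ξ) (S.xl a η)) ∧
    ∀ a c : ι ⊕ ι, ab a ≠ ab c → ∀ ξ η : Lam F od, CL σ (S.xl a ξ) (S.xl c η)

/-- the four types of commuting pairs of short roots: the same root, two roots at `60°` (in a row, in a column), two orthogonal roots on four indices -/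
structure HTs (S : SysU F od ι G) (σ : Γ →* G) : Prop where
  t1 : ∀ a b : ι ⊕ ι, ab a ≠ ab b → ∀ t u : F, CL σ (S.xs a b t) (S.xs a b u)
  t3r : ∀ a b d : ι ⊕ ι, ab a ≠ ab b → ab a ≠ ab d → ab b ≠ ab d → ∀ t u : F, CL σ (S.xs a b t) (S.xs a d u)
  t3c : ∀ a b c : ι ⊕ ι, ab a ≠ ab b → ab c ≠ ab b → ab a ≠ ab c → ∀ t u : F, CL σ (S.xs a b t) (S.xs c b u)
  t4 : ∀ a b c d : ι ⊕ ι, ab a ≠ ab b → ab c ≠ ab d → ab a ≠ ab c → ab a ≠ ab d → ab b ≠ ab c → ab b ≠ ab d →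
    ∀ t u : F, CL σ (S.xs a b t) (S.xs c d u)

/-- the two types of commuting pairs (long / half root, short root): at `45°` (`2e_a`, `e_a - e_d`) and orthogonal -/
structure HTl (S : SysU F od ι G) (σ : Γ →* G) : Prop where
  t5 : ∀ a d : ι ⊕ ι, ab a ≠ ab d → ∀ (ξ : Lam F od) (u : F), CL σ (S.xl a ξ) (S.xs a d u)
  t6 : ∀ a c d : ι ⊕ ι, ab c ≠ ab d → ab a ≠ ab c → ab a ≠ ab d → ∀ (ξ : Lam F od) (u : F), CL σ (S.xl a ξ) (S.xs c d u)

/-- the commutator of lifts of `xs a c t` and `xs c b u`: a lift of `xs a b (t * u)` -/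
noncomputable def Ys (S : SysU F od ι G) {σ : Γ →* G} (h : IsCE σ) (a c b : ι ⊕ ι) (t u : F) : Γ :=
  cm (lf h (S.xs a c t)) (lf h (S.xs c b u))

/-- the relation `B` -/
def PB (S : SysU F od ι G) {σ : Γ →* G} (h : IsCE σ) : Prop :=
  ∀ a c b : ι ⊕ ι, ab a ≠ ab c → ab c ≠ ab b → ab a ≠ ab b → ∀ t u : F, Ys S h a c b t u = Ys S h a c b (t * u) 1

/-- independence of the middle index -/
def PI (S : SysU F od ι G) {σ : Γ →* G} (h : IsCE σ) : Prop :=
  ∀ a c c' b : ι ⊕ ι, ab a ≠ ab c → ab c ≠ ab b → ab a ≠ ab c' → ab c' ≠ ab b → ab a ≠ ab b → ∀ t : F,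
    Ys S h a c b t 1 = Ys S h a c' b t 1

open Classical in
/-- the lift of `xs a b t` through a chosen third index -/
noncomputable def Xs (S : SysU F od ι G) {σ : Γ →* G} (h : IsCE σ) (h3 : I3 ι) (a b : ι ⊕ ι) (t : F) : Γ :=
  Ys S h a (Classical.choose (h3 a b)) b t 1

/-- the torus lift of a short root element (used when there are only two indices): `S.hs a b c₁` scales `xs a b` by `c₁ ^ 2` -/
noncomputable def Xt (S : SysU F od ι G) {σ : Γ →* G} (h : IsCE σ) (c₁ : F) (a b : ι ⊕ ι) (t : F) : Γ :=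
  cm (lf h (S.hs a b c₁)) (lf h (S.xs a b ((c₁ ^ 2 - 1)⁻¹ * t)))

/-- canonical lifts of the short root elements: additive, compatible with the two names of a short root, equivariant under the
monomial elements (`SysU.IsMon`), and satisfying the relation short + short = short -/
structure ShortLift (S : SysU F od ι G) {σ : Γ →* G} (h : IsCE σ) where
  X : ι ⊕ ι → ι ⊕ ι → F → Γ
  map : ∀ a b, ab a ≠ ab b → ∀ t, σ (X a b t) = S.xs a b t
  add : ∀ a b, ab a ≠ ab b → ∀ t u, X a b (t + u) = X a b t * X a b u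
  sym : ∀ a b, ab a ≠ ab b → ∀ t, X a b t = X (ng b) (ng a) (-(star t))
  eqv : ∀ (g : G) (π : Equiv.Perm (ι ⊕ ι)) (d : ι ⊕ ι → F) (d0 : F), S.IsMon g π d d0 →
    ∀ e : Γ, σ e = g → ∀ a b, ab a ≠ ab b → ∀ t, cj e (X a b t) = X (π a) (π b) (d a * (d b)⁻¹ * t)
  c3 : ∀ a c b, ab a ≠ ab c → ab c ≠ ab b → ab a ≠ ab b → ∀ t u, cm (X a c t) (X c b u) = X a b (t * u)

variable {S : SysU F od ι G} {σ : Γ →* G} {h : IsCE σ}

/-- the commutator of the canonical lifts of `xs a b t` and `xs b (ng a) u`: a lift of the long root element `xl a (tr (t * u))` (`SysU.ssl`) -/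
def Wl (L : ShortLift S h) (a b : ι ⊕ ι) (t u : F) : Γ := cm (L.X a b t) (L.X b (ng a) u)

open Classical in
/-- (even case, at least three indices) the lift of the long root element `xl a (tr x)` through a chosen auxiliary index -/
noncomputable def Zw (L : ShortLift S h) (h2 : I2 ι) (a : ι ⊕ ι) (x : F) : Γ :=
  Wl L a (Classical.choose (h2 a)) x 1

/-- (even case, two indices) the torus lift of the long root element `xl a (tr x)`: `S.hl a ξ₁ ξ₂` scales `xl a (tr x)` by `ρ * star ρ`, `ρ = ξ₁.c / ξ₂.c` -/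
noncomputable def Zh (S : SysU F od ι G) {σ : Γ →* G} (h : IsCE σ) (ξ₁ ξ₂ : Lam F od) (a : ι ⊕ ι) (x : F) : Γ :=
  cm (lf h (S.hl a ξ₁ ξ₂)) (lf h (S.xl a (Lam.tr (((ξ₁.c / ξ₂.c) * star (ξ₁.c / ξ₂.c) - 1)⁻¹ * x))))

/-- canonical lifts of the long / half root elements: multiplicative and equivariant under the monomial elements -/
structure LongLift (S : SysU F od ι G) {σ : Γ →* G} (h : IsCE σ) where
  Z : ι ⊕ ι → Lam F od → Γ
  map : ∀ a ξ, σ (Z a ξ) = S.xl a ξ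
  mul : ∀ a ξ η, Z a (ξ * η) = Z a ξ * Z a η
  eqv : ∀ (g : G) (π : Equiv.Perm (ι ⊕ ι)) (d : ι ⊕ ι → F) (d0 : F), S.IsMon g π d d0 →
    ∀ e : Γ, σ e = g → ∀ a ξ, cj e (Z a ξ) = Z (π a) (Lam.act (d a * d0⁻¹) ξ)

/-- (even case) canonical lifts of the long root elements `xl a (tr x)`, parametrised by `x : F`, satisfying the lifted relation `ssl` -/
structure TrLift (S : SysU F od ι G) {σ : Γ →* G} {h : IsCE σ} (L : ShortLift S h) where
  Z : ι ⊕ ι → F → Γ
  map : ∀ a x, σ (Z a x) = S.xl a (Lam.tr x)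
  add : ∀ a x y, Z a (x + y) = Z a x * Z a y
  ker : ∀ a x, star x = x → Z a x = 1
  eqv : ∀ (g : G) (π : Equiv.Perm (ι ⊕ ι)) (d : ι ⊕ ι → F) (d0 : F), S.IsMon g π d d0 →
    ∀ e : Γ, σ e = g → ∀ a x, cj e (Z a x) = Z (π a) (d a * star (d a) * x)
  ssl : ∀ a b, ab a ≠ ab b → ∀ t u, cm (L.X a b t) (L.X b (ng a) u) = Z a (t * u)

/-- the element `(0, c)` of the form parameter group, `c` skew -/
def _root_.Cfsg.Agent.Lib.Helper27.STU.Lam.sk (c : F) (hc : star c = -c) : Lam F od :=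
  ⟨0, c, by rw [hc]; simp, fun _ => rfl⟩

@[simp] theorem _root_.Cfsg.Agent.Lib.Helper27.STU.Lam.sk_v (c : F) (hc : star c = -c) : (Lam.sk c hc : Lam F od).v = 0 := rfl

@[simp] theorem _root_.Cfsg.Agent.Lib.Helper27.STU.Lam.sk_c (c : F) (hc : star c = -c) : (Lam.sk c hc : Lam F od).c = c := rfl

/-- the fixed field of the involution -/
def F0 (F : Type*) [Field F] [StarRing F] : Subfield F := RingHom.eqLocusField (starRingEnd F) (RingHom.id F)

theorem mem_F0 {x : F} : x ∈ F0 F ↔ star x = x := Iff.rfl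

open scoped Classical in
/-- the restriction of a system to a subgroup containing the root elements (the values `xs a b t` at the pairs with `a = b` or `a = ng b`, which play no role, are replaced by `1`) -/
noncomputable def _root_.Cfsg.Agent.Lib.Helper27.STU.SysU.restrict (S : SysU F od ι G) (H : Subgroup G)
    (hs : ∀ a b, a ≠ b → a ≠ ng b → ∀ t, S.xs a b t ∈ H) (hl : ∀ a ξ, S.xl a ξ ∈ H) : SysU F od ι H where
  xs a b t := if hab : a ≠ b ∧ a ≠ ng b then ⟨S.xs a b t, hs a b hab.1 hab.2 t⟩ else 1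
  xl a ξ := ⟨S.xl a ξ, hl a ξ⟩
  sym a b hab hab' t := by
    have h2 : ng b ≠ ng a ∧ ng b ≠ ng (ng a) := by
      refine ⟨fun e => hab (Cfsg.Agent.Lib.helper3.STC.ng_inj.1 e).symm, fun e => hab' ?_⟩
      rw [Cfsg.Agent.Lib.helper3.STC.ng_ng] at e
      rw [← e]
    rw [dif_pos ⟨hab, hab'⟩, dif_pos h2]
    exact Subtype.ext (S.sym a b hab hab' t)
  adds a b hab hab' t u := by
    rw [dif_pos ⟨hab, hab'⟩, dif_pos ⟨hab, hab'⟩, dif_pos ⟨hab, hab'⟩]
    exact Subtype.ext (S.adds a b hab hab' t u)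
  addl a ξ η := Subtype.ext (S.addl a ξ η)
  comm_ss a b c d hab hab' hcd hcd' hbc had hbd hac t u := by
    rw [dif_pos ⟨hab, hab'⟩, dif_pos ⟨hcd, hcd'⟩]
    exact Subtype.ext (S.comm_ss a b c d hab hab' hcd hcd' hbc had hbd hac t u)
  comm_ls a c d hcd hcd' hca hda ξ u := by
    rw [dif_pos ⟨hcd, hcd'⟩]
    exact Subtype.ext (S.comm_ls a c d hcd hcd' hca hda ξ u)
  comm3 a b c hab hab' hbc hbc' hac hac' t u := by
    rw [dif_pos ⟨hab, hab'⟩, dif_pos ⟨hbc, hbc'⟩, dif_pos ⟨hac, hac'⟩]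
    exact Subtype.ext (S.comm3 a b c hab hab' hbc hbc' hac hac' t u)
  ssl a b hab hab' t u := by
    have h2 : b ≠ ng a ∧ b ≠ ng (ng a) := by
      refine ⟨fun e => hab' ?_, fun e => hab ?_⟩
      · rw [e, Cfsg.Agent.Lib.helper3.STC.ng_ng]
      · rw [Cfsg.Agent.Lib.helper3.STC.ng_ng] at e
        exact e.symm
    rw [dif_pos ⟨hab, hab'⟩, dif_pos h2]
    exact Subtype.ext (S.ssl a b hab hab' t u)
  ls a b hab hab' ξ u := by
    have h2 : ng a ≠ b ∧ ng a ≠ ng b := by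
      refine ⟨fun e => hab' ?_, fun e => hab (Cfsg.Agent.Lib.helper3.STC.ng_inj.1 e)⟩
      rw [← e, Cfsg.Agent.Lib.helper3.STC.ng_ng]
    rw [dif_pos h2, dif_pos ⟨hab, hab'⟩]
    exact Subtype.ext (S.ls a b hab hab' ξ u)
  hh a b hab hab' ξ η := by
    have h2 : a ≠ ng b ∧ a ≠ ng (ng b) := by
      refine ⟨hab', fun e => hab ?_⟩
      rw [Cfsg.Agent.Lib.helper3.STC.ng_ng] at e
      exact e
    rw [dif_pos h2]
    exact Subtype.ext (S.hh a b hab hab' ξ η)
  rel a b hab hab' t u ht := by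
    have h2 : b ≠ a ∧ b ≠ ng a := by
      refine ⟨hab.symm, fun e => hab' ?_⟩
      rw [e, Cfsg.Agent.Lib.helper3.STC.ng_ng]
    have h1 : a ≠ b ∧ a ≠ ng b := ⟨hab, hab'⟩
    simp only [dif_pos h1, dif_pos h2]
    exact Subtype.ext (S.rel a b hab hab' t u ht)
  r1 a := by
    obtain ⟨ρ, hρ⟩ := S.r1 a
    exact ⟨ρ.codRestrict H (SysU.sub_r1_mem ρ (fun ξ => by rw [(hρ ξ).1]; exact hl a ξ) (fun ξ => by rw [(hρ ξ).2]; exact hl (ng a) ξ)),
      fun ξ => ⟨Subtype.ext (hρ ξ).1, Subtype.ext (hρ ξ).2⟩⟩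

open scoped Classical in
theorem _root_.Cfsg.Agent.Lib.Helper27.STU.SysU.restrict_xs_coe (S : SysU F od ι G) (H : Subgroup G)
    (hs : ∀ a b, a ≠ b → a ≠ ng b → ∀ t, S.xs a b t ∈ H) (hl : ∀ a ξ, S.xl a ξ ∈ H) {a b : ι ⊕ ι} (hab : a ≠ b) (hab' : a ≠ ng b) (t : F) :
    (((S.restrict H hs hl).xs a b t : H) : G) = S.xs a b t := by
  have h : (S.restrict H hs hl).xs a b t = (⟨S.xs a b t, hs a b hab hab' t⟩ : H) := by
    show (if hab : a ≠ b ∧ a ≠ ng b then (⟨S.xs a b t, hs a b hab.1 hab.2 t⟩ : H) else 1) = _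
    rw [dif_pos ⟨hab, hab'⟩]
  rw [h]

theorem _root_.Cfsg.Agent.Lib.Helper27.STU.SysU.restrict_xl_coe (S : SysU F od ι G) (H : Subgroup G)
    (hs : ∀ a b, a ≠ b → a ≠ ng b → ∀ t, S.xs a b t ∈ H) (hl : ∀ a ξ, S.xl a ξ ∈ H) (a : ι ⊕ ι) (ξ : Lam F od) :
    (((S.restrict H hs hl).xl a ξ : H) : G) = S.xl a ξ := rfl

end Cfsg.Agent.Lib.helper7.CEU
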